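import Mathlib.Data.List.Basic

/-!
# Words and short lists for the outer automorphism group of the O'Nan group

Letters `0 … 5` are `a … f`, `6` is `g` and `7` its inverse.
-/

set_option autoImplicit false
set_option maxRecDepth 100000

namespace CfsgLib.KnownA.ONanOut

/-- an element of order 11 -/
def xW : List ℕ := [3, 2, 1, 6, 4, 3, 2, 3, 4, 7, 1, 2]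

/-- an element of order 20 -/
def yW : List ℕ := [4, 6, 1, 3, 2, 1, 7, 1, 4, 3, 7, 4, 5]

/-- the elements of `H` fixing the point 1 -/
def stab64 : List (List ℕ) := [
  [],
  [0, 2, 3, 2, 3],
  [0],
  [1, 2, 4, 3, 2, 1, 5, 4, 3, 2, 3, 2, 4, 3, 2, 3, 1, 2, 3, 4, 2, 3, 1, 2, 3, 4, 5, 0, 1, 0],
  [5, 0],
  [2, 3, 2, 3],
  [0, 1, 4, 3, 2, 3, 2, 1, 0, 4, 3, 2, 1, 3, 2, 4, 3, 2, 3, 1, 2, 3, 4, 2, 3, 2, 3, 1, 2, 3, 4, 3, 2],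
  [1, 0, 5, 4, 3, 2, 1, 3, 2, 4, 3, 2, 1, 3, 2, 3, 4, 2, 3, 2, 3, 4, 5, 1, 2, 3, 4, 2, 1],
  [0, 1, 2, 4, 3, 2, 1, 3, 2, 4, 3, 2, 1, 5, 4, 3, 2, 3, 4, 2, 3, 2, 3, 1, 2, 3, 4, 2, 3, 1, 2, 3, 1],
  [1, 0, 4, 3, 2, 1, 3, 2, 4, 3, 2, 1, 3, 2, 3, 4, 2, 3, 2, 3, 1, 2, 3, 4, 5, 3, 4, 2, 1],
  [0, 3, 2, 3, 2],
  [5],
  [1, 2, 4, 3, 2, 1, 5, 4, 3, 2, 3, 2, 4, 3, 2, 3, 1, 2, 3, 4, 2, 3, 1, 2, 3, 4, 0, 1],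
  [3, 2, 1, 3, 2, 3, 4, 3, 2, 1, 3, 2, 4, 3, 5, 4, 3, 2, 3, 1, 2, 3, 4, 3, 2, 3, 1, 2, 3, 4, 0, 1],
  [2, 3, 4, 3, 2, 1, 3, 2, 3, 2, 4, 3, 2, 1, 3, 2, 3, 4, 2, 3, 1, 2, 3, 4, 0, 1, 2, 3, 2, 3, 4, 1],
  [2, 3, 2, 1, 3, 2, 4, 3, 2, 1, 5, 4, 3, 2, 3, 4, 2, 3, 2, 3, 1, 2, 3, 4, 2, 3, 1, 2, 3, 4, 0, 1],
  [1, 2, 4, 3, 5, 4, 3, 2, 1, 3, 2, 3, 2, 4, 3, 2, 3, 1, 2, 3, 4, 2, 3, 1, 2, 3, 4, 0, 1, 0],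
  [1, 3, 2, 1, 3, 2, 4, 3, 2, 1, 3, 2, 3, 2, 4, 3, 2, 3, 4, 5, 1, 2, 3, 4, 2, 3, 1, 2, 3, 4, 2, 1],
  [0, 1, 0, 2, 1, 3, 2, 4, 3, 2, 1, 3, 2, 4, 3, 2, 1, 3, 4, 2, 3, 2, 3, 4, 5, 1, 2, 3, 4, 2, 3, 2, 3],
  [3, 2, 3, 2],
  [0, 1, 0, 4, 3, 2, 1, 3, 2, 4, 3, 2, 1, 3, 2, 3, 4, 2, 3, 2, 3, 4, 5, 1, 2, 3, 4, 2, 1],
  [1, 0, 4, 3, 2, 1, 3, 2, 4, 3, 2, 1, 3, 2, 3, 4, 2, 3, 2, 3, 4, 5, 1, 2, 3, 4, 2, 1, 0],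
  [0, 1, 0, 4, 3, 2, 1, 3, 2, 3, 4, 3, 2, 1, 3, 2, 3, 4, 5, 3, 4, 2, 3, 1, 2, 3, 4, 3, 2, 3, 1, 2, 3],
  [0, 4, 3, 2, 1, 5, 4, 3, 2, 3, 2, 1, 4, 3, 2, 3, 4, 2, 3, 1, 2, 3, 4, 2, 3, 1, 2, 0, 1, 0],
  [0, 1, 0, 4, 3, 2, 1, 3, 2, 4, 3, 2, 1, 3, 2, 3, 2, 4, 3, 2, 3, 4, 5, 1, 2, 3, 4, 2, 3, 1, 2, 3, 2],
  [4, 3, 2, 1, 5, 4, 3, 2, 3, 2, 1, 4, 3, 2, 3, 4, 2, 3, 1, 2, 3, 4, 2, 3, 1, 2, 3, 0, 1, 2, 3, 2],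
  [4, 3, 5, 4, 3, 2, 1, 3, 2, 3, 2, 1, 4, 3, 2, 3, 4, 2, 3, 1, 2, 3, 4, 2, 3, 1, 2, 0, 1, 0],
  [3, 2, 3, 2, 4, 3, 2, 1, 5, 4, 3, 2, 3, 2, 4, 3, 1, 2, 3, 4, 2, 3, 1, 2, 3, 4, 2, 3, 1, 2, 0, 1],
  [0, 1, 2, 4, 3, 2, 1, 5, 4, 3, 2, 3, 2, 4, 3, 2, 3, 1, 2, 3, 4, 2, 3, 1, 2, 3, 4, 0, 1, 0],
  [0, 1, 0, 2, 1, 3, 2, 4, 3, 2, 1, 3, 2, 3, 4, 3, 2, 3, 1, 2, 3, 4, 5, 3, 0, 1, 2, 3, 4, 1, 2, 3, 2],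
  [1, 0, 2, 1, 3, 2, 4, 3, 2, 1, 3, 2, 4, 3, 2, 3, 4, 1, 2, 3, 2, 3, 1, 2, 3, 4, 5, 3, 4],
  [0, 4, 3, 2, 1, 5, 4, 3, 2, 3, 2, 1, 4, 3, 2, 3, 4, 2, 3, 1, 2, 3, 4, 2, 3, 1, 2, 0, 1],
  [1, 0, 2, 1, 3, 2, 4, 3, 2, 1, 3, 2, 4, 3, 2, 3, 4, 1, 2, 3, 2, 3, 4, 5, 1, 2, 3, 4, 0],
  [0, 2, 3, 2, 1, 0, 3, 2, 1, 3, 2, 4, 3, 2, 1, 3, 2, 4, 3, 2, 3, 4, 1, 2, 3, 2, 3, 4, 5, 1, 2, 3, 4],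
  [0, 1, 0, 2, 1, 3, 2, 4, 3, 2, 1, 3, 2, 4, 3, 2, 3, 4, 1, 2, 3, 2, 3, 4, 5, 1, 2, 3, 4],
  [0, 1, 2, 3, 2, 1, 0, 3, 2, 3, 4, 3, 2, 3, 1, 2, 3, 4, 3, 2, 3, 0, 1, 2, 3, 2, 1, 0],
  [1, 2, 1, 0, 3, 4, 3, 2, 1, 3, 2, 3, 4, 3, 2, 3, 1, 2, 3, 4, 2, 3, 1, 2, 3, 4, 0, 1, 2, 3, 1, 2],
  [2, 3, 2, 1, 4, 3, 2, 1, 0, 3, 5, 4, 3, 2, 1, 3, 2, 3, 4, 3, 2, 3, 1, 2, 3, 4, 2, 3, 1, 2, 0, 1],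
  [4, 3, 2, 1, 5, 4, 3, 2, 3, 2, 1, 4, 3, 2, 3, 4, 2, 3, 1, 2, 3, 4, 2, 3, 1, 2, 0, 1],
  [0, 1, 2, 3, 2, 1, 0, 3, 2, 3, 4, 3, 2, 1, 3, 2, 3, 4, 1, 2, 3, 1, 2, 3, 1, 2, 3, 0, 1],
  [1, 0, 2, 1, 3, 2, 4, 3, 2, 1, 3, 2, 4, 3, 2, 3, 4, 1, 2, 3, 2, 3, 4, 5, 1, 2, 3, 4],
  [1, 2, 3, 2, 1, 0, 3, 2, 3, 4, 3, 2, 1, 0, 3, 2, 3, 4, 3, 2, 3, 1, 2, 3, 2, 1, 0],
  [0, 1, 2, 3, 2, 1, 0, 3, 2, 3, 4, 3, 2, 1, 3, 2, 3, 4, 1, 2, 3, 2, 3, 1, 2, 3, 2, 1, 0],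
  [0, 1, 2, 3, 2, 1, 0, 3, 2, 3, 4, 3, 2, 1, 3, 2, 3, 4, 3, 2, 3, 0, 1, 2, 3, 2, 1],
  [0, 2, 1, 3, 2, 1, 0, 4, 3, 2, 1, 3, 2, 4, 3, 2, 1, 3, 2, 3, 4, 3, 2, 3, 1, 2, 3, 4, 3, 0, 1, 2, 1],
  [1, 0, 3, 2, 1, 3, 2, 1, 0, 3, 4, 3, 2, 3, 1, 2, 3, 4, 3, 2, 3, 0, 1, 2, 3, 2, 1, 0],
  [1, 2, 3, 2, 1, 3, 2, 3, 2, 1, 4, 3, 2, 3, 1, 2, 3, 4, 3, 0, 1, 2, 3, 1, 2, 3, 0, 1],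
  [1, 0, 3, 2, 1, 3, 2, 1, 3, 2, 1, 4, 3, 2, 3, 1, 2, 3, 4, 3, 2, 3, 0, 1, 2, 3, 2, 1],
  [1, 2, 3, 2, 1, 3, 2, 3, 2, 1, 4, 3, 2, 3, 1, 2, 3, 4, 3, 2, 3, 0, 1, 2, 3, 2, 1, 0],
  [1, 2, 3, 2, 1, 0, 3, 2, 3, 4, 3, 2, 3, 1, 2, 3, 4, 3, 2, 3, 0, 1, 2, 3, 2, 1],
  [0, 1, 2, 3, 2, 1, 3, 2, 3, 2, 1, 4, 3, 2, 3, 1, 2, 3, 4, 3, 2, 3, 0, 1, 2, 3, 2, 1],
  [0, 1, 0, 4, 3, 2, 1, 3, 2, 1, 4, 3, 2, 1, 0, 3, 5, 4, 3, 2, 1, 3, 2, 4, 3, 1, 2, 3, 4, 5, 1, 2, 3, 4, 3, 2, 3, 1, 2, 3, 4, 3, 2, 0, 1],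
  [1, 2, 3, 2, 1, 0, 3, 2, 3, 4, 3, 2, 1, 0, 3, 2, 3, 4, 3, 1, 2, 3, 1, 2, 3, 0, 1],
  [1, 0, 3, 2, 1, 3, 2, 1, 0, 3, 4, 3, 2, 1, 3, 2, 3, 4, 3, 2, 3, 0, 1, 2, 3, 2, 1],
  [0, 1, 0, 3, 2, 1, 3, 2, 1, 0, 3, 4, 3, 2, 1, 3, 2, 3, 4, 1, 2, 3, 2, 3, 1, 2, 3, 2, 1],
  [0, 1, 2, 3, 2, 1, 0, 4, 3, 2, 1, 3, 2, 3, 2, 4, 3, 2, 1, 5, 4, 3, 2, 3, 4, 2, 3, 2, 3, 1, 2, 3, 4, 5, 0, 1, 2, 3, 4, 2, 3, 1, 2, 3, 1, 2, 0, 1],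
  [1, 2, 3, 2, 1, 0, 3, 2, 3, 4, 3, 2, 1, 3, 2, 3, 4, 1, 2, 3, 2, 3, 1, 2, 3, 2, 1],
  [1, 0, 4, 3, 2, 1, 3, 2, 4, 3, 2, 5, 4, 3, 2, 1, 3, 2, 3, 2, 4, 3, 1, 2, 3, 0, 1, 2, 3, 4, 5, 2, 3, 4, 2, 3, 1, 2, 3, 4, 1, 2, 0, 1],
  [1, 2, 3, 2, 1, 0, 4, 3, 2, 1, 3, 2, 3, 2, 4, 3, 2, 1, 5, 4, 3, 2, 3, 4, 2, 3, 2, 3, 1, 2, 3, 4, 5, 0, 1, 2, 3, 4, 2, 3, 1, 2, 3, 1, 2, 0, 1, 0],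
  [1, 0, 2, 3, 4, 3, 2, 1, 3, 2, 3, 4, 3, 2, 1, 5, 4, 3, 2, 1, 3, 4, 2, 3, 1, 2, 3, 4, 5, 3, 0, 1, 2, 3, 4, 1, 2, 3, 1, 2, 3, 4, 0, 1],
  [1, 2, 3, 2, 1, 0, 3, 2, 3, 4, 3, 2, 1, 3, 2, 3, 4, 3, 0, 1, 2, 3, 1, 2, 3, 0, 1, 0],
  [0, 1, 0, 2, 1, 4, 3, 2, 1, 3, 2, 4, 3, 2, 5, 4, 3, 2, 1, 0, 3, 2, 1, 3, 4, 2, 3, 2, 3, 1, 2, 3, 4, 5, 2, 3, 4, 2, 3, 1, 2, 3, 4, 0, 1],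
  [1, 0, 2, 1, 3, 2, 1, 3, 2, 4, 3, 2, 1, 0, 5, 4, 3, 2, 1, 3, 2, 3, 2, 4, 3, 2, 3, 4, 5, 1, 2, 3, 4, 2, 3, 2, 3, 1, 2, 3, 4, 0, 1, 2, 3, 2, 1],
  [0, 1, 0, 2, 1, 3, 2, 1, 3, 2, 4, 3, 2, 1, 0, 5, 4, 3, 2, 1, 3, 2, 3, 2, 4, 3, 2, 3, 4, 5, 1, 2, 3, 4, 2, 3, 2, 3, 1, 2, 3, 4, 0, 1, 2, 3, 2, 1, 0]]

/-- a word of `H` taking 1 to the image of 0 -/
def baseX : List ℕ := [4, 3, 2, 3, 2, 4, 3, 2, 1, 3, 2]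

/-- the admissible pairs of images, packed -/
def targetsX : List ℕ := [1957037847, 1957079513, 1957962016, 1957997016, 3036940640, 3036969880, 3037080376, 3037110202, 3927314357, 3927349879, 3930066867, 3930086909, 4385150083, 4385165442, 4385281143, 4385314912, 4801357866, 4801389785, 4801499732, 4801520854, 5413449665, 5413483524, 5988980584, 5989012685, 6671372394, 6671379490, 6671510560, 6671511861, 8793134949, 8793167055, 9274009674, 9274033688, 9274139825, 9274141365, 9347935600, 9347966614, 9348066316, 9348067764, 9928851214, 9928854452, 9928975042, 9928985492, 10401525694, 10401557004, 10573070753, 10573076817, 10573329367, 10573339121, 10782037152, 10782068004, 12031008333, 12031031804,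 13017704511, 13017783722, 13529171234, 13529210492, 13529302417, 13529342388, 14201799991, 14201887751, 15057061854, 15057096801, 15057193166, 15057231205]

/-- a word of `H` taking 1 to the image of 0 -/
def baseN : List ℕ := [1, 0, 3, 2, 1, 0, 3, 2, 4, 3, 5, 4]

/-- the admissible pairs of images, packed -/
def targetsN : List ℕ := [9830441, 9961580, 10188327, 11403433, 11534701, 12692997, 16122135, 16253525, 17432621, 17563766, 19631036, 20955805, 25005528, 29343957, 43742760, 46120768, 6143839895, 6188804874, 7990759013, 7991152228, 8818467248, 9228846299, 9229239514, 9310139178, 9898632082, 10353079077, 10543899492, 10544030563, 10587174098, 10638437109, 12168178441, 13919293077]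

/-- the images of 0 under the powers of the element of order 11 -/
def orbX : List ℕ := [0, 3131, 35342, 60662, 42169, 26, 7, 71002, 32512, 65036, 6729]

/-- the images of 0 under the powers of the element of order 20 -/
def orbY : List ℕ := [0, 5851, 25145, 22029, 2680, 137, 5844, 14693, 8872, 2684]

/-- the generators as words in `x, x⁻¹, y, y⁻¹` -/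
def genW : List (List ℕ) := [
  [0, 3, 1, 1, 1, 3, 0, 2, 1, 2, 0, 2, 0, 0, 2, 1, 3, 0, 2, 2, 0, 2, 0, 2, 0, 0, 0, 2, 0, 0],
  [3, 0, 3, 0, 3, 0, 3, 0, 2, 1, 3, 1, 2, 1, 1, 3, 1, 2, 1, 3, 0, 2, 0, 2, 1, 3, 0, 3, 0, 0, 0],
  [2, 1, 1, 1, 2, 1, 3, 0, 3, 1, 2, 0, 2, 1, 1, 3, 0, 3, 0, 2, 0, 2, 1, 2, 1, 2, 2, 2, 0],
  [2, 2, 2, 2, 2, 2, 2, 2, 2, 2],
  [2, 2, 0, 2, 2, 2, 1, 2, 0, 0, 2, 0, 0, 2, 0, 3, 0, 2, 0, 2, 0, 3, 0, 2, 1, 1, 1, 2, 1, 1],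
  [0, 0, 2, 0, 3, 0, 2, 1, 2, 0, 0, 3, 1, 2, 0, 0, 3, 1, 3, 0, 2, 0, 3, 0, 0],
  [0, 2, 1, 1, 3, 3, 3, 1, 3, 1, 3, 1, 2, 0, 0, 2, 1, 3, 1, 1, 3, 1, 2, 0, 0, 2, 0, 0, 0]]

/-- the images of the letters under the outer automorphism -/
def imgW : List (List ℕ) := [
  [4, 3, 6, 2, 1, 6, 1, 4, 3, 2, 1, 3, 4, 5, 2, 3, 4],
  [1, 4, 3, 5, 4, 3, 2, 3, 6, 1, 2, 7, 1, 3, 2, 3, 4, 5, 2, 3, 4, 1],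
  [0, 3, 2, 1, 5, 4, 3, 2, 1, 3, 2, 3, 4, 5, 3, 1, 2, 6, 1, 7, 2, 3, 2, 1, 7, 4, 3, 2, 3, 4, 5],
  [3],
  [4, 7, 1, 3, 4, 6, 2, 1, 3, 6, 2, 4, 6, 3, 4, 2, 3, 7, 1, 2, 1, 7, 1, 6, 3, 4],
  [4, 3, 7, 1, 7, 2, 4, 3, 2, 1, 7, 2, 3, 2, 1, 6, 3, 4, 5, 3, 4],
  [2, 6, 1, 3, 2, 1, 4, 6, 1, 3, 2, 4, 7, 3, 4, 1, 2, 3, 2, 6, 1, 7, 2, 3, 4, 7],
  [6, 4, 3, 2, 6, 1, 7, 2, 3, 2, 1, 4, 3, 6, 4, 2, 3, 1, 7, 4, 1, 2, 3, 1, 7, 2]]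

end CfsgLib.KnownA.ONanOut
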