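import Cfsg.Agent.Lib.KnownA.ON.Data
import Cfsg.Agent.Lib.KnownA.ON.DataOrb
import Cfsg.Agent.Lib.KnownA.ON.Sub0Data
import Cfsg.Agent.Lib.KnownA.ON.Sub2Data
import Cfsg.Agent.Lib.KnownA.ONanOut.Data

/-!
# Boolean scans for the centralisers of two elements of the O'Nan group

A centralising element is described by the image `γ` of the point 0.  The trees of the orbit
certificates give words moving `γ` back to 0 and a point of the largest suborbit back to 1; what is
left must be one of the 64 elements fixing both points.
-/

set_option autoImplicit false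

namespace CfsgLib.KnownA.ONanOut

open CfsgLib.InvChar.Coset

/-- The inverse letter. -/
noncomputable def iv4 (l : ℕ) : ℕ := (0xfedcba9867543210 >>> (4 * l)) % 16

/-- Walk up a tree of points, applying the inverse letters to `q`; the number of points signals
failure. -/
noncomputable def walk (par : Tr) (fuel : ℕ) : ℕ → ℕ → ℕ :=
  Nat.rec (motive := fun _ => ℕ → ℕ → ℕ) (fun _ _ => 122760)
    (fun _ ih m q => bif Nat.beq m 0 then q else
      force (field par 128 30 m) fun v =>
      force (ONData.table.app q (iv4 (v % 1024))) fun q' =>
      force (v >>> 10) fun m' => ih m' q') fuel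

/-- The image of `q` under a word taking `γ` back to 0. -/
noncomputable def walk0 (γ q : ℕ) : ℕ :=
  force (field ONData.orbPos 128 20 γ) fun c => walk ONData.orbPar 32 (c - 1) q

/-- Membership in a list of numerals. -/
noncomputable def memb (t : ℕ) (U : List ℕ) : Bool :=
  List.rec (motive := fun _ => Bool) false (fun u _ ih => Nat.beq t u || ih) U

/-- No element fixing the points 0 and 1 completes the images given by the words `c1`, `c2`, `c3`
of the point `γ`. -/
noncomputable def stage (c1 c2 c3 U : List ℕ) (γ : ℕ) : Bool :=
  force (walk0 γ (ONData.table.follow c1 γ)) fun b => Nat.blt b 122760 &&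
    force (field ONData.sub0Pos 128 20 b) fun k =>
      Nat.beq k 0 || (Nat.ble k 58653 && Nat.beq (field ONData.sub0Pts 128 20 (k - 1)) b &&
        force (walk0 γ (ONData.table.follow c2 γ)) fun b2 =>
        force (walk0 γ (ONData.table.follow c3 γ)) fun b3 =>
          Nat.blt b2 122760 && Nat.blt b3 122760 &&
        force (walk ONData.sub0Par 32 (k - 1) b2) fun t2 =>
        force (walk ONData.sub0Par 32 (k - 1) b3) fun t3 =>
          Nat.blt t2 122760 && Nat.blt t3 122760 && !memb (t2 * 131072 + t3) U)

/-- The element of order 10. -/
noncomputable def nW : List ℕ := yW ++ yW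

/-- The scan for the element of order 11 at a point. -/
noncomputable def atX (γ : ℕ) : Bool :=
  memb γ orbX ||
    (force (walk0 γ (ONData.table.follow (xW ++ xW) γ)) fun b =>
      Nat.blt b 122760 && Nat.beq (field ONData.sub2Pos 128 20 b) 0) ||
    stage xW (xW ++ xW) (xW ++ xW ++ xW) targetsX γ

/-- The scan for the element of order 10 at a point: the fifth power fixes the image of 0. -/
noncomputable def atN (γ : ℕ) : Bool :=
  !Nat.beq (ONData.table.app γ 3) γ || memb γ orbY ||
    stage nW (nW ++ nW) (nW ++ nW ++ nW ++ nW) targetsN γ

/-- A check at `cnt` points from `i`. -/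
noncomputable def chkFrom (f : ℕ → Bool) (cnt : ℕ) : ℕ → Bool :=
  Nat.rec (fun _ => true) (fun _ ih i => f i && force (i + 1) ih) cnt

theorem chkFrom_get (f : ℕ → Bool) : ∀ cnt i, chkFrom f cnt i = true →
    ∀ j, i ≤ j → j < i + cnt → f j = true := by
  intro cnt
  induction cnt with
  | zero => intro i _ j h1 h2; omega
  | succ cnt ih =>
    intro i h j h1 h2
    have h' : (f i && force (i + 1) fun i' => chkFrom f cnt i') = true := h
    simp only [force_eq, Bool.and_eq_true] at h'
    rcases eq_or_lt_of_le h1 with rfl | h3
    · exact h'.1
    · exact ih _ h'.2 j h3 (by omega)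

end CfsgLib.KnownA.ONanOut
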