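import Cfsg.Agent.Lib.KnownA.ON.Order
import Cfsg.Agent.Lib.KnownA.ON.Sub2
import Cfsg.Agent.Lib.KnownA.ONanOut.Defs

/-!
# The point action of the O'Nan group on numerals, and soundness of the walks
-/

set_option autoImplicit false
set_option maxRecDepth 100000

namespace CfsgLib.KnownA.ONanOut

open CfsgLib.InvChar.Coset Cfsg.Spor CfsgLib.KnownA.ONPres

theorem table_n : ONData.table.n = 122760 := rfl

theorem table_g : ONData.table.g = 8 := rfl

/-- The image of a point: words are read from the left. -/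
noncomputable def mvN (g : ON) (i : ℕ) : ℕ :=
  if h : i < ONData.table.n then (rep g⁻¹ ⟨i, h⟩ : Fin ONData.table.n).val else i

theorem mvN_of_lt (g : ON) {i : ℕ} (hi : i < ONData.table.n) :
    mvN g i = (rep g⁻¹ ⟨i, hi⟩ : Fin ONData.table.n).val := dif_pos hi

theorem mvN_lt (g : ON) {i : ℕ} (hi : i < ONData.table.n) : mvN g i < ONData.table.n := by
  rw [mvN_of_lt g hi]; exact Fin.isLt _

theorem mvN_mul (g h : ON) {i : ℕ} (hi : i < ONData.table.n) : mvN (g * h) i = mvN h (mvN g i) := by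
  rw [mvN_of_lt h (mvN_lt g hi), mvN_of_lt (g * h) hi, mul_inv_rev, map_mul, Equiv.Perm.mul_apply]
  congr 2
  exact Fin.ext (mvN_of_lt g hi).symm

theorem mvN_one (i : ℕ) : mvN 1 i = i := by
  unfold mvN; split_ifs with h <;> simp

theorem mvN_inv_mvN (g : ON) {i : ℕ} (hi : i < ONData.table.n) : mvN g⁻¹ (mvN g i) = i := by
  rw [← mvN_mul g g⁻¹ hi, mul_inv_cancel, mvN_one]

theorem mvN_mvN_inv (g : ON) {i : ℕ} (hi : i < ONData.table.n) : mvN g (mvN g⁻¹ i) = i := by
  rw [← mvN_mul g⁻¹ g hi, inv_mul_cancel, mvN_one]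

theorem follow_eq_mvN (L : List ℕ) (hL : ∀ x ∈ L, x < 8) {i : ℕ} (hi : i < ONData.table.n) :
    ONData.table.follow L i = mvN (wprod gen L) i := by
  rw [mvN_of_lt _ hi, map_inv, map_wprod rep gen (CosetInv.permOf ONData.valid pairs') L
    fun y hy => rep_gen y (hL y hy)]
  exact CosetInv.follow_eq ONData.valid pairs' L hL ⟨i, hi⟩

theorem app_eq_mvN {l : ℕ} (hl : l < 8) {i : ℕ} (hi : i < ONData.table.n) :
    ONData.table.app i l = mvN (gen l) i := by
  have h := follow_eq_mvN [l] (by simpa using hl) hi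
  have e : ONData.table.follow [l] i = ONData.table.app i l := force_eq _ _
  rw [← e, h, show wprod gen [l] = gen l by simp [wprod]]

theorem n_pos : 0 < ONData.table.n := ONData.covered.hn

theorem mvN_H {h : ON} (hh : h ∈ H) : mvN h 0 = 0 := by
  rw [mvN_of_lt h n_pos, H_fix _ (inv_mem hh)]

theorem mem_H_of_fix {g : ON} (h : mvN g 0 = 0) : g ∈ H := by
  obtain ⟨-, e, he0, he⟩ := index_H
  have hfix : rep g⁻¹ ⟨0, n_pos⟩ = ⟨0, n_pos⟩ := Fin.ext (by rw [← mvN_of_lt g n_pos]; exact h)
  have h2 := he g⁻¹ ⟨0, ONData.covered.hn⟩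
  rw [hfix, he0] at h2
  have h3 : ((g⁻¹ * 1 : ON) : ON ⧸ H) = ((1 : ON) : ON ⧸ H) := h2
  rw [mul_one, QuotientGroup.eq, inv_inv, mul_one] at h3
  exact h3

/-- An element is determined by the images of 0, 1 and 27. -/
theorem ext_mvN {g h : ON} (e : ∀ i ∈ [0, 1, 27], mvN g i = mvN h i) : g = h := by
  have key := order_facts.2.2 (h * g⁻¹) fun i hi => ?_
  · exact (mul_inv_eq_one.1 key).symm
  · refine Fin.ext ?_
    have h1 : mvN (g * h⁻¹) i = i := by
      rw [mvN_mul g h⁻¹ i.2, e _ hi, mvN_inv_mvN h i.2]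
    rw [mvN_of_lt _ i.2, mul_inv_rev, inv_inv] at h1
    exact h1

theorem eq_of_follow (A B : List ℕ) (hA : ∀ x ∈ A, x < 8) (hB : ∀ x ∈ B, x < 8)
    (e : ∀ i ∈ [0, 1, 27], ONData.table.follow A i = ONData.table.follow B i) :
    wprod gen A = wprod gen B := by
  refine ext_mvN fun i hi => ?_
  have hlt : i < ONData.table.n := by
    rw [table_n]; simp only [List.mem_cons, List.not_mem_nil, or_false] at hi; omega
  rw [← follow_eq_mvN A hA hlt, ← follow_eq_mvN B hB hlt, e i hi]

theorem gen_mem_H {x : ℕ} (hx : x < 6) : gen x ∈ H := by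
  have := mem_wordsClosure gen (W := ONData.subs) (L := [x])
    ((by decide +kernel : ∀ x < 6, [x] ∈ ONData.subs) x hx)
  simpa [wprod, H] using this

theorem wprod_mem_H (L : List ℕ) (hL : ∀ x ∈ L, x < 6) : wprod gen L ∈ H := by
  refine Subgroup.list_prod_mem _ fun g hg => ?_
  obtain ⟨x, hx, rfl⟩ := List.mem_map.1 hg
  exact gen_mem_H (hL x hx)

theorem gen_inv (l : ℕ) (hl : l < 8) : (gen l)⁻¹ = gen (iv4 l) := by
  rw [show iv4 l = ivT l from (by decide +kernel : ∀ l < 8, iv4 l = ivT l) l hl, gen_ivT]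

theorem iv4_lt {l : ℕ} (hl : l < 8) : iv4 l < 8 :=
  (by decide +kernel : ∀ l < 8, iv4 l < 8) l hl

/-- The suborbit data is invariant under `H`. -/
theorem invariant {W : List (List ℕ)} (hW : ONData.subs = W) {pts pos par : Tr} {m : ℕ} (hm : 0 < m)
    (hok : ∀ k < m, Table.OrbitOK ONData.table W pts pos par m k) {h : ON} (hh : h ∈ H) {q : ℕ}
    (hq : ∃ k < m, field pts 128 20 k = q) : ∃ k < m, field pts 128 20 k = mvN h q := by
  obtain ⟨k, hk, rfl⟩ := hq
  obtain ⟨-, e, -, he⟩ := index_H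
  have hlt : ∀ L ∈ W, ∀ x ∈ L, x < ONData.table.g := by
    subst hW; exact (by decide +kernel : ∀ L ∈ ONData.subs, ∀ x ∈ L, x < ONData.table.g)
  obtain ⟨-, hmem⟩ := CosetInv.suborbit_of_cert ONData.table ONData.valid pairs' gen rep rep_gen e he hlt H
    (congrArg (wordsClosure gen) hW) hm hok ⟨field pts 128 20 0, (hok 0 hm).1⟩ rfl
  have h1 := (hmem ⟨field pts 128 20 k, (hok k hk).1⟩).2 ⟨k, hk, rfl⟩
  have h2 : e (rep h⁻¹ ⟨field pts 128 20 k, (hok k hk).1⟩) ∈
      MulAction.orbit H (e ⟨field pts 128 20 0, (hok 0 hm).1⟩) := by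
    rw [← he]
    exact MulAction.mem_orbit_of_mem_orbit (⟨h⁻¹, inv_mem hh⟩ : H) h1
  obtain ⟨j, hj, hj'⟩ := (hmem _).1 h2
  exact ⟨j, hj, by rw [hj', mvN_of_lt h (hok k hk).1]⟩

/-- The parent of a checked orbit point. -/
theorem edge_get (T : Table) (S : List (List ℕ)) (pts pos par : Tr) (m : ℕ) : ∀ (cnt k : ℕ),
    T.chkOrbit S pts pos par m cnt k = true → ∀ j, k ≤ j → j < k + cnt → j = 0 ∨
      (field par 128 30 j >>> 10 < j ∧ T.follow (S.getD (field par 128 30 j % 1024) [])
        (field pts 128 20 (field par 128 30 j >>> 10)) = field pts 128 20 j) := by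
  intro cnt
  induction cnt with
  | zero => intro i _ j h1 h2; omega
  | succ cnt ih =>
    intro i h j h1 h2
    have h' : (T.chkOrbitPoint S pts pos par m i &&
      force (i + 1) (fun i' => T.chkOrbit S pts pos par m cnt i')) = true := h
    rw [Bool.and_eq_true, force_eq] at h'
    rcases eq_or_lt_of_le h1 with rfl | h3
    · have hp := h'.1
      simp only [Table.chkOrbitPoint, force_eq, Bool.and_eq_true, Bool.or_eq_true] at hp
      exact hp.1.2.imp Nat.eq_of_beq_eq_true fun h =>
        ⟨by simpa [Nat.blt] using h.1, Nat.eq_of_beq_eq_true h.2⟩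
    · exact ih _ h'.2 j h3 (by omega)

/-- A tree whose edges are letters. -/
def Tree (pts par : Tr) (m B : ℕ) : Prop :=
  ∀ k < m, field pts 128 20 k < ONData.table.n ∧ (k = 0 ∨
    (field par 128 30 k >>> 10 < k ∧ field par 128 30 k % 1024 < B ∧
      ONData.table.app (field pts 128 20 (field par 128 30 k >>> 10)) (field par 128 30 k % 1024) =
        field pts 128 20 k))

theorem tree_of {S : List (List ℕ)} {pts pos par : Tr} {m B : ℕ} (hlen : S.length = B)
    (hS : ∀ l < B, S.getD l [] = [l]) (hok : ∀ k < m, Table.OrbitOK ONData.table S pts pos par m k)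
    (hedge : ∀ k < m, k = 0 ∨ (field par 128 30 k >>> 10 < k ∧
      ONData.table.follow (S.getD (field par 128 30 k % 1024) [])
        (field pts 128 20 (field par 128 30 k >>> 10)) = field pts 128 20 k)) :
    Tree pts par m B := by
  intro k hk
  refine ⟨(hok k hk).1, (hedge k hk).imp id fun ⟨h1, h2⟩ => ?_⟩
  have hl : field par 128 30 k % 1024 < B := by
    by_contra hl
    rw [List.getD_eq_default _ _ (by omega)] at h2
    have e1 := (hok _ (h1.trans hk)).2.1
    have e2 : field pts 128 20 (field par 128 30 k >>> 10) = field pts 128 20 k := h2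
    rw [e2, (hok k hk).2.1] at e1
    omega
  refine ⟨h1, hl, ?_⟩
  rw [hS _ hl] at h2
  have e : ONData.table.follow [field par 128 30 k % 1024]
      (field pts 128 20 (field par 128 30 k >>> 10)) =
      ONData.table.app (field pts 128 20 (field par 128 30 k >>> 10)) (field par 128 30 k % 1024) :=
    force_eq _ _
  rw [← e, h2]

/-- A walk realises the inverse of a word in the letters of the tree. -/
theorem walk_spec {pts par : Tr} {m B : ℕ} (hT : Tree pts par m B) (hB : B ≤ 8) (K : Subgroup ON)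
    (hK : ∀ l < B, gen l ∈ K) : ∀ fuel k, k < m → ∃ g ∈ K, ∀ q < ONData.table.n,
      walk par fuel k q < 122760 →
        mvN g (field pts 128 20 0) = field pts 128 20 k ∧ walk par fuel k q = mvN g⁻¹ q := by
  intro fuel
  induction fuel with
  | zero => intro k _; exact ⟨1, one_mem K, fun q _ h => absurd h (lt_irrefl _)⟩
  | succ fuel ih =>
    intro k hk
    have e : ∀ q, walk par (fuel + 1) k q = bif Nat.beq k 0 then q else
        force (field par 128 30 k) fun v =>
        force (ONData.table.app q (iv4 (v % 1024))) fun q' =>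
        force (v >>> 10) fun m' => walk par fuel m' q' := fun q => rfl
    rcases Nat.eq_zero_or_pos k with rfl | hk0
    · refine ⟨1, one_mem K, fun q _ _ => ⟨mvN_one _, ?_⟩⟩
      rw [e, inv_one, mvN_one]
      rfl
    · have hb : Nat.beq k 0 = false := by
        cases hb : Nat.beq k 0
        · rfl
        · exact absurd (Nat.eq_of_beq_eq_true hb) hk0.ne'
      obtain ⟨hn, h0 | ⟨h1, hl, h2⟩⟩ := hT k hk
      · omega
      have hl8 : field par 128 30 k % 1024 < 8 := lt_of_lt_of_le hl hB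
      obtain ⟨g, hg, hgq⟩ := ih _ (h1.trans hk)
      refine ⟨g * gen (field par 128 30 k % 1024), mul_mem hg (hK _ hl), fun q hq h => ?_⟩
      rw [e, hb, cond_false, force_eq, force_eq, force_eq] at h
      have hq' : ONData.table.app q (iv4 (field par 128 30 k % 1024)) =
          mvN (gen (field par 128 30 k % 1024))⁻¹ q := by
        rw [app_eq_mvN (iv4_lt hl8) hq, gen_inv _ hl8]
      obtain ⟨hg1, hg2⟩ := hgq _ (by rw [hq']; exact mvN_lt _ hq) h
      refine ⟨?_, ?_⟩
      · rw [mvN_mul _ _ (hT 0 (by omega)).1, hg1, ← app_eq_mvN hl8 (hT _ (h1.trans hk)).1, h2]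
      · rw [e, hb, cond_false, force_eq, force_eq, force_eq, hg2, mul_inv_rev, mvN_mul _ _ hq, hq']

end CfsgLib.KnownA.ONanOut
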