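import Cfsg.Agent.Lib.KnownA.ONanOut.Defs

set_option autoImplicit false
set_option maxRecDepth 100000

namespace CfsgLib.KnownA.ONanOut

theorem chkX0 : chkFrom atX 5000 0 = true := by decide +kernel

theorem chkN0 : chkFrom atN 5000 0 = true := by decide +kernel

theorem chkX5000 : chkFrom atX 5000 5000 = true := by decide +kernel

theorem chkN5000 : chkFrom atN 5000 5000 = true := by decide +kernel

theorem chkX10000 : chkFrom atX 5000 10000 = true := by decide +kernel

theorem chkN10000 : chkFrom atN 5000 10000 = true := by decide +kernel

theorem chkX15000 : chkFrom atX 5000 15000 = true := by decide +kernel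

theorem chkN15000 : chkFrom atN 5000 15000 = true := by decide +kernel

end CfsgLib.KnownA.ONanOut
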