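import Cfsg.Agent.Lib.KnownA.ONanOut.Defs

set_option autoImplicit false
set_option maxRecDepth 100000

namespace CfsgLib.KnownA.ONanOut

theorem chkX40000 : chkFrom atX 5000 40000 = true := by decide +kernel

theorem chkN40000 : chkFrom atN 5000 40000 = true := by decide +kernel

theorem chkX45000 : chkFrom atX 5000 45000 = true := by decide +kernel

theorem chkN45000 : chkFrom atN 5000 45000 = true := by decide +kernel

theorem chkX50000 : chkFrom atX 5000 50000 = true := by decide +kernel

theorem chkN50000 : chkFrom atN 5000 50000 = true := by decide +kernel

theorem chkX55000 : chkFrom atX 5000 55000 = true := by decide +kernel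

theorem chkN55000 : chkFrom atN 5000 55000 = true := by decide +kernel

end CfsgLib.KnownA.ONanOut
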