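import Cfsg.Agent.Lib.KnownA.ONanOut.Defs

set_option autoImplicit false
set_option maxRecDepth 100000

namespace CfsgLib.KnownA.ONanOut

theorem chkX60000 : chkFrom atX 5000 60000 = true := by decide +kernel

theorem chkN60000 : chkFrom atN 5000 60000 = true := by decide +kernel

theorem chkX65000 : chkFrom atX 5000 65000 = true := by decide +kernel

theorem chkN65000 : chkFrom atN 5000 65000 = true := by decide +kernel

theorem chkX70000 : chkFrom atX 5000 70000 = true := by decide +kernel

theorem chkN70000 : chkFrom atN 5000 70000 = true := by decide +kernel

theorem chkX75000 : chkFrom atX 5000 75000 = true := by decide +kernel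

theorem chkN75000 : chkFrom atN 5000 75000 = true := by decide +kernel

end CfsgLib.KnownA.ONanOut
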