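import Cfsg.Agent.Lib.KnownA.ONanOut.Defs

set_option autoImplicit false
set_option maxRecDepth 100000

namespace CfsgLib.KnownA.ONanOut

theorem chkX100000 : chkFrom atX 5000 100000 = true := by decide +kernel

theorem chkN100000 : chkFrom atN 5000 100000 = true := by decide +kernel

theorem chkX105000 : chkFrom atX 5000 105000 = true := by decide +kernel

theorem chkN105000 : chkFrom atN 5000 105000 = true := by decide +kernel

theorem chkX110000 : chkFrom atX 5000 110000 = true := by decide +kernel

theorem chkN110000 : chkFrom atN 5000 110000 = true := by decide +kernel

theorem chkX115000 : chkFrom atX 5000 115000 = true := by decide +kernel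

theorem chkN115000 : chkFrom atN 5000 115000 = true := by decide +kernel

end CfsgLib.KnownA.ONanOut
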