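import Cfsg.Agent.Lib.KnownA.ONanOut.Defs

set_option autoImplicit false
set_option maxRecDepth 100000

namespace CfsgLib.KnownA.ONanOut

theorem chkX120000 : chkFrom atX 2760 120000 = true := by decide +kernel

theorem chkN120000 : chkFrom atN 2760 120000 = true := by decide +kernel

end CfsgLib.KnownA.ONanOut
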