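import Cfsg.Agent.Lib.KnownA.ONanOut.C0
import Cfsg.Agent.Lib.KnownA.ONanOut.C1
import Cfsg.Agent.Lib.KnownA.ONanOut.C2
import Cfsg.Agent.Lib.KnownA.ONanOut.C3
import Cfsg.Agent.Lib.KnownA.ONanOut.C4
import Cfsg.Agent.Lib.KnownA.ONanOut.C5
import Cfsg.Agent.Lib.KnownA.ONanOut.C6

/-!
# The scans at every point
-/

set_option autoImplicit false

namespace CfsgLib.KnownA.ONanOut

theorem allX (i : ℕ) (hi : i < 122760) : atX i = true := by
  rcases Nat.lt_or_ge i 5000 with h | h
  · exact chkFrom_get atX 5000 0 chkX0 i (by omega) (by omega)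
  rcases Nat.lt_or_ge i 10000 with h | h
  · exact chkFrom_get atX 5000 5000 chkX5000 i (by omega) (by omega)
  rcases Nat.lt_or_ge i 15000 with h | h
  · exact chkFrom_get atX 5000 10000 chkX10000 i (by omega) (by omega)
  rcases Nat.lt_or_ge i 20000 with h | h
  · exact chkFrom_get atX 5000 15000 chkX15000 i (by omega) (by omega)
  rcases Nat.lt_or_ge i 25000 with h | h
  · exact chkFrom_get atX 5000 20000 chkX20000 i (by omega) (by omega)
  rcases Nat.lt_or_ge i 30000 with h | h
  · exact chkFrom_get atX 5000 25000 chkX25000 i (by omega) (by omega)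
  rcases Nat.lt_or_ge i 35000 with h | h
  · exact chkFrom_get atX 5000 30000 chkX30000 i (by omega) (by omega)
  rcases Nat.lt_or_ge i 40000 with h | h
  · exact chkFrom_get atX 5000 35000 chkX35000 i (by omega) (by omega)
  rcases Nat.lt_or_ge i 45000 with h | h
  · exact chkFrom_get atX 5000 40000 chkX40000 i (by omega) (by omega)
  rcases Nat.lt_or_ge i 50000 with h | h
  · exact chkFrom_get atX 5000 45000 chkX45000 i (by omega) (by omega)
  rcases Nat.lt_or_ge i 55000 with h | h
  · exact chkFrom_get atX 5000 50000 chkX50000 i (by omega) (by omega)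
  rcases Nat.lt_or_ge i 60000 with h | h
  · exact chkFrom_get atX 5000 55000 chkX55000 i (by omega) (by omega)
  rcases Nat.lt_or_ge i 65000 with h | h
  · exact chkFrom_get atX 5000 60000 chkX60000 i (by omega) (by omega)
  rcases Nat.lt_or_ge i 70000 with h | h
  · exact chkFrom_get atX 5000 65000 chkX65000 i (by omega) (by omega)
  rcases Nat.lt_or_ge i 75000 with h | h
  · exact chkFrom_get atX 5000 70000 chkX70000 i (by omega) (by omega)
  rcases Nat.lt_or_ge i 80000 with h | h
  · exact chkFrom_get atX 5000 75000 chkX75000 i (by omega) (by omega)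
  rcases Nat.lt_or_ge i 85000 with h | h
  · exact chkFrom_get atX 5000 80000 chkX80000 i (by omega) (by omega)
  rcases Nat.lt_or_ge i 90000 with h | h
  · exact chkFrom_get atX 5000 85000 chkX85000 i (by omega) (by omega)
  rcases Nat.lt_or_ge i 95000 with h | h
  · exact chkFrom_get atX 5000 90000 chkX90000 i (by omega) (by omega)
  rcases Nat.lt_or_ge i 100000 with h | h
  · exact chkFrom_get atX 5000 95000 chkX95000 i (by omega) (by omega)
  rcases Nat.lt_or_ge i 105000 with h | h
  · exact chkFrom_get atX 5000 100000 chkX100000 i (by omega) (by omega)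
  rcases Nat.lt_or_ge i 110000 with h | h
  · exact chkFrom_get atX 5000 105000 chkX105000 i (by omega) (by omega)
  rcases Nat.lt_or_ge i 115000 with h | h
  · exact chkFrom_get atX 5000 110000 chkX110000 i (by omega) (by omega)
  rcases Nat.lt_or_ge i 120000 with h | h
  · exact chkFrom_get atX 5000 115000 chkX115000 i (by omega) (by omega)
  exact chkFrom_get atX 2760 120000 chkX120000 i (by omega) (by omega)

theorem allN (i : ℕ) (hi : i < 122760) : atN i = true := by
  rcases Nat.lt_or_ge i 5000 with h | h
  · exact chkFrom_get atN 5000 0 chkN0 i (by omega) (by omega)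
  rcases Nat.lt_or_ge i 10000 with h | h
  · exact chkFrom_get atN 5000 5000 chkN5000 i (by omega) (by omega)
  rcases Nat.lt_or_ge i 15000 with h | h
  · exact chkFrom_get atN 5000 10000 chkN10000 i (by omega) (by omega)
  rcases Nat.lt_or_ge i 20000 with h | h
  · exact chkFrom_get atN 5000 15000 chkN15000 i (by omega) (by omega)
  rcases Nat.lt_or_ge i 25000 with h | h
  · exact chkFrom_get atN 5000 20000 chkN20000 i (by omega) (by omega)
  rcases Nat.lt_or_ge i 30000 with h | h
  · exact chkFrom_get atN 5000 25000 chkN25000 i (by omega) (by omega)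
  rcases Nat.lt_or_ge i 35000 with h | h
  · exact chkFrom_get atN 5000 30000 chkN30000 i (by omega) (by omega)
  rcases Nat.lt_or_ge i 40000 with h | h
  · exact chkFrom_get atN 5000 35000 chkN35000 i (by omega) (by omega)
  rcases Nat.lt_or_ge i 45000 with h | h
  · exact chkFrom_get atN 5000 40000 chkN40000 i (by omega) (by omega)
  rcases Nat.lt_or_ge i 50000 with h | h
  · exact chkFrom_get atN 5000 45000 chkN45000 i (by omega) (by omega)
  rcases Nat.lt_or_ge i 55000 with h | h
  · exact chkFrom_get atN 5000 50000 chkN50000 i (by omega) (by omega)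
  rcases Nat.lt_or_ge i 60000 with h | h
  · exact chkFrom_get atN 5000 55000 chkN55000 i (by omega) (by omega)
  rcases Nat.lt_or_ge i 65000 with h | h
  · exact chkFrom_get atN 5000 60000 chkN60000 i (by omega) (by omega)
  rcases Nat.lt_or_ge i 70000 with h | h
  · exact chkFrom_get atN 5000 65000 chkN65000 i (by omega) (by omega)
  rcases Nat.lt_or_ge i 75000 with h | h
  · exact chkFrom_get atN 5000 70000 chkN70000 i (by omega) (by omega)
  rcases Nat.lt_or_ge i 80000 with h | h
  · exact chkFrom_get atN 5000 75000 chkN75000 i (by omega) (by omega)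
  rcases Nat.lt_or_ge i 85000 with h | h
  · exact chkFrom_get atN 5000 80000 chkN80000 i (by omega) (by omega)
  rcases Nat.lt_or_ge i 90000 with h | h
  · exact chkFrom_get atN 5000 85000 chkN85000 i (by omega) (by omega)
  rcases Nat.lt_or_ge i 95000 with h | h
  · exact chkFrom_get atN 5000 90000 chkN90000 i (by omega) (by omega)
  rcases Nat.lt_or_ge i 100000 with h | h
  · exact chkFrom_get atN 5000 95000 chkN95000 i (by omega) (by omega)
  rcases Nat.lt_or_ge i 105000 with h | h
  · exact chkFrom_get atN 5000 100000 chkN100000 i (by omega) (by omega)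
  rcases Nat.lt_or_ge i 110000 with h | h
  · exact chkFrom_get atN 5000 105000 chkN105000 i (by omega) (by omega)
  rcases Nat.lt_or_ge i 115000 with h | h
  · exact chkFrom_get atN 5000 110000 chkN110000 i (by omega) (by omega)
  rcases Nat.lt_or_ge i 120000 with h | h
  · exact chkFrom_get atN 5000 115000 chkN115000 i (by omega) (by omega)
  exact chkFrom_get atN 2760 120000 chkN120000 i (by omega) (by omega)

end CfsgLib.KnownA.ONanOut
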