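import Cfsg.Agent.Lib.KnownA.ONanOut.Base

/-!
# Soundness of the scans
-/

set_option autoImplicit false
set_option maxRecDepth 100000

namespace CfsgLib.KnownA.ONanOut

open CfsgLib.InvChar.Coset Cfsg.Spor CfsgLib.KnownA.ONPres

theorem orbTree : Tree ONData.orbPts ONData.orbPar 122760 8 := by
  refine tree_of (S := [[0], [1], [2], [3], [4], [5], [6], [7]]) rfl (by decide) ONData.orb_ok ?_
  intro k hk
  have go : ∀ {cnt k0 : ℕ}, ONData.table.chkOrbit [[0], [1], [2], [3], [4], [5], [6], [7]]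
      ONData.orbPts ONData.orbPos ONData.orbPar 122760 cnt k0 = true → k0 ≤ k → k < k0 + cnt → _ :=
    fun {cnt k0} h => edge_get ONData.table _ _ _ _ 122760 cnt k0 h k
  rcases Nat.lt_or_ge k 10000 with h | h; · exact go ONData.chk_orb0 (Nat.zero_le _) h
  rcases Nat.lt_or_ge k 20000 with h' | h'; · exact go ONData.chk_orb1 h h'
  rcases Nat.lt_or_ge k 30000 with h | h; · exact go ONData.chk_orb2 h' h
  rcases Nat.lt_or_ge k 40000 with h' | h'; · exact go ONData.chk_orb3 h h'
  rcases Nat.lt_or_ge k 50000 with h | h; · exact go ONData.chk_orb4 h' h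
  rcases Nat.lt_or_ge k 60000 with h' | h'; · exact go ONData.chk_orb5 h h'
  rcases Nat.lt_or_ge k 70000 with h | h; · exact go ONData.chk_orb6 h' h
  rcases Nat.lt_or_ge k 80000 with h' | h'; · exact go ONData.chk_orb7 h h'
  rcases Nat.lt_or_ge k 90000 with h | h; · exact go ONData.chk_orb8 h' h
  rcases Nat.lt_or_ge k 100000 with h' | h'; · exact go ONData.chk_orb9 h h'
  rcases Nat.lt_or_ge k 110000 with h | h; · exact go ONData.chk_orb10 h' h
  rcases Nat.lt_or_ge k 120000 with h' | h'; · exact go ONData.chk_orb11 h h'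
  exact go ONData.chk_orb12 h' hk

theorem sub0Tree : Tree ONData.sub0Pts ONData.sub0Par 58653 6 := by
  refine tree_of (S := ONData.sub0Words) rfl (by decide +kernel) ONData.sub0_ok ?_
  intro k hk
  have go : ∀ {cnt k0 : ℕ}, ONData.table.chkOrbit ONData.sub0Words
      ONData.sub0Pts ONData.sub0Pos ONData.sub0Par 58653 cnt k0 = true → k0 ≤ k → k < k0 + cnt → _ :=
    fun {cnt k0} h => edge_get ONData.table _ _ _ _ 58653 cnt k0 h k
  rcases Nat.lt_or_ge k 12000 with h | h; · exact go ONData.chk_sub00 (Nat.zero_le _) h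
  rcases Nat.lt_or_ge k 24000 with h' | h'; · exact go ONData.chk_sub01 h h'
  rcases Nat.lt_or_ge k 36000 with h | h; · exact go ONData.chk_sub02 h' h
  rcases Nat.lt_or_ge k 48000 with h' | h'; · exact go ONData.chk_sub03 h h'
  exact go ONData.chk_sub04 h' hk

/-- Every point has a position. -/
theorem orb_surj {γ : ℕ} (hγ : γ < ONData.table.n) :
    field ONData.orbPos 128 20 γ - 1 < ONData.table.n ∧
      field ONData.orbPts 128 20 (field ONData.orbPos 128 20 γ - 1) = γ := by
  let f : Fin ONData.table.n → Fin ONData.table.n :=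
    fun k => ⟨field ONData.orbPts 128 20 k, (ONData.orb_ok k k.2).1⟩
  have hf : Function.Injective f := fun a b h => by
    have ha := (ONData.orb_ok a a.2).2.1
    rw [show field ONData.orbPts 128 20 a = field ONData.orbPts 128 20 b from congrArg Fin.val h,
      (ONData.orb_ok b b.2).2.1] at ha
    exact Fin.ext (by omega)
  obtain ⟨k, hk⟩ := (Finite.injective_iff_surjective.1 hf) ⟨γ, hγ⟩
  have e : field ONData.orbPts 128 20 k = γ := congrArg Fin.val hk
  have e2 := (ONData.orb_ok k k.2).2.1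
  rw [e] at e2
  rw [e2, Nat.add_sub_cancel]
  exact ⟨k.2, e⟩

theorem walk0_spec {γ : ℕ} (hγ : γ < ONData.table.n) :
    ∃ u : ON, ∀ q < ONData.table.n, walk0 γ q < 122760 → mvN u 0 = γ ∧ walk0 γ q = mvN u⁻¹ q := by
  obtain ⟨hk, hpt⟩ := orb_surj hγ
  obtain ⟨u, -, hu⟩ := walk_spec orbTree le_rfl ⊤ (fun l _ => Subgroup.mem_top _) 32 _
    (show field ONData.orbPos 128 20 γ - 1 < 122760 from hk)
  refine ⟨u, fun q hq h => ?_⟩
  rw [walk0, force_eq] at h ⊢
  obtain ⟨h1, h2⟩ := hu q hq h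
  rw [ONData.orb_root, hpt] at h1
  exact ⟨h1, h2⟩

theorem memb_iff (t : ℕ) : ∀ U : List ℕ, memb t U = true ↔ t ∈ U := by
  intro U
  induction U with
  | nil => exact ⟨fun h => absurd h (by simp [memb]), fun h => absurd h (by simp)⟩
  | cons u U ih =>
    have e : memb t (u :: U) = (Nat.beq t u || memb t U) := rfl
    rw [e, Bool.or_eq_true, ih, List.mem_cons]
    exact or_congr ⟨Nat.eq_of_beq_eq_true, fun h => by rw [h]; exact Nat.beq_refl u⟩ Iff.rfl

theorem stab_facts : (∀ s ∈ stab64, (∀ x ∈ s, x < 6) ∧ ONData.table.follow s 1 = 1) ∧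
    (stab64.map fun s => ONData.table.follow s 27).Nodup ∧ stab64.length = 64 := by
  decide +kernel

/-- The elements fixing the points 0 and 1. -/
theorem stab_cases {z : ON} (hz : z ∈ H) (h1 : mvN z 1 = 1) : ∃ s ∈ stab64, z = wprod gen s := by
  classical
  obtain ⟨hs, hnd, hlen⟩ := stab_facts
  obtain ⟨-, e, -, he⟩ := index_H
  haveI : Finite H := Nat.finite_of_card_ne_zero (by rw [order_facts.1]; norm_num)
  have hlt1 : 1 < ONData.table.n := by rw [table_n]; norm_num
  have hlt27 : 27 < ONData.table.n := by rw [table_n]; norm_num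
  let p : Fin ONData.table.n := ⟨1, hlt1⟩
  let St : Subgroup H := MulAction.stabilizer H (e p)
  have hiff : ∀ w : H, w ∈ St ↔ mvN (w : ON) 1 = 1 := by
    intro w
    have h0 : w ∈ St ↔ (w : ON) • e p = e p := Iff.rfl
    rw [h0, he, e.apply_eq_iff_eq, mvN_of_lt _ hlt1, map_inv]
    constructor
    · intro h; rw [Equiv.Perm.inv_eq_iff_eq.2 h.symm]
    · intro h; exact (Equiv.Perm.inv_eq_iff_eq.1 (Fin.ext h : (rep (w : ON))⁻¹ p = p)).symm
  have hS : ∀ L ∈ ONData.sub0Words, ∀ x ∈ L, x < ONData.table.g := by decide +kernel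
  obtain ⟨ho, -⟩ := CosetInv.suborbit_of_cert ONData.table ONData.valid pairs' gen rep rep_gen e he hS H
    (congrArg (wordsClosure gen) (by decide +kernel : ONData.subs = ONData.sub0Words))
    (by norm_num) ONData.sub0_ok p ONData.sub0_root.symm
  have hcard : Nat.card St = 64 := by
    have h := St.card_mul_index
    rw [MulAction.index_stabilizer, ho, order_facts.1] at h
    omega
  let f : Fin stab64.length → St := fun i =>
    ⟨⟨wprod gen stab64[i], wprod_mem_H _ (hs _ (List.getElem_mem _)).1⟩, (hiff _).2 (by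
      obtain ⟨hl, hf⟩ := hs _ (List.getElem_mem i.2)
      show mvN (wprod gen stab64[i.1]) 1 = 1
      rw [← follow_eq_mvN _ (fun x hx => (hl x hx).trans (by norm_num)) hlt1]
      exact hf)⟩
  have hinj : Function.Injective f := by
    intro i j hij
    have e1 : wprod gen stab64[i] = wprod gen stab64[j] :=
      congrArg (fun w : St => ((w : H) : ON)) hij
    have e2 : mvN (wprod gen stab64[i.1]) 27 = mvN (wprod gen stab64[j.1]) 27 :=
      congrArg (fun w => mvN w 27) e1
    rw [← follow_eq_mvN _ (fun x hx => ((hs _ (List.getElem_mem i.2)).1 x hx).trans (by norm_num)) hlt27,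
      ← follow_eq_mvN _ (fun x hx => ((hs _ (List.getElem_mem j.2)).1 x hx).trans (by norm_num)) hlt27] at e2
    exact Fin.ext ((hnd.getElem_inj_iff (hi := by simp) (hj := by simp)).1 (by simpa using e2))
  have hbij : Function.Bijective f :=
    (Nat.bijective_iff_injective_and_card f).2 ⟨hinj, by rw [Nat.card_fin, hlen, hcard]⟩
  obtain ⟨i, hi⟩ := hbij.2 ⟨⟨z, hz⟩, (hiff ⟨z, hz⟩).2 h1⟩
  exact ⟨_, List.getElem_mem i.2, (congrArg (fun w : St => ((w : H) : ON)) hi).symm⟩

theorem wprod_reverse_inv : ∀ w : List ℕ, (∀ x ∈ w, x < 6) → wprod gen w.reverse = (wprod gen w)⁻¹ := by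
  intro w
  induction w with
  | nil => intro _; simp [wprod]
  | cons a w ih =>
    intro hw
    obtain ⟨ha, hw⟩ := List.forall_mem_cons.1 hw
    rw [List.reverse_cons, wprod_append, ih hw]
    simp only [wprod, List.map_cons, List.map_nil, List.prod_cons, List.prod_nil, mul_one, mul_inv_rev]
    rw [inv_eq_of_mul_eq_one_right (gen_sq a ha)]

/-- Data for a stage: the base word and the admissible pairs. -/
def Targets (c1 c2 c3 w U : List ℕ) : Prop :=
  (∀ x ∈ c1 ++ c2 ++ c3, x < 8) ∧ (∀ x ∈ w, x < 6) ∧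
    ONData.table.follow w 1 = ONData.table.follow c1 0 ∧
    ∀ s ∈ stab64, ONData.table.follow s (ONData.table.follow w.reverse (ONData.table.follow c2 0)) * 131072 +
      ONData.table.follow s (ONData.table.follow w.reverse (ONData.table.follow c3 0)) ∈ U

/-- An element commuting with three words is not excluded. -/
theorem stage_false {c1 c2 c3 w U : List ℕ} (hU : Targets c1 c2 c3 w U) {g : ON}
    (k1 : Commute g (wprod gen c1)) (k2 : Commute g (wprod gen c2)) (k3 : Commute g (wprod gen c3)) :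
    stage c1 c2 c3 U (mvN g 0) = false := by
  obtain ⟨hc, hw, hw1, hs⟩ := hU
  have hc1 : ∀ x ∈ c1, x < 8 := fun x hx => hc x (by simp [hx])
  have hc2 : ∀ x ∈ c2, x < 8 := fun x hx => hc x (by simp [hx])
  have hc3 : ∀ x ∈ c3, x < 8 := fun x hx => hc x (by simp [hx])
  have hw8 : ∀ x ∈ w, x < 8 := fun x hx => (hw x hx).trans (by norm_num)
  have hwr : ∀ x ∈ w.reverse, x < 8 := fun x hx => hw8 x (List.mem_reverse.1 hx)
  have hγ : mvN g 0 < ONData.table.n := mvN_lt g n_pos
  by_contra hne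
  have h := Bool.eq_true_of_not_eq_false hne
  simp only [stage, force_eq, Bool.and_eq_true, Bool.or_eq_true, Bool.not_eq_true'] at h
  obtain ⟨hb, h⟩ := h
  obtain ⟨u, hu⟩ := walk0_spec hγ
  have hlt : ∀ L : List ℕ, (∀ x ∈ L, x < 8) → ∀ i < ONData.table.n,
      ONData.table.follow L i < ONData.table.n := fun L hL i hi => by
    rw [follow_eq_mvN L hL hi]; exact mvN_lt _ hi
  have move : ∀ (c : List ℕ), (∀ x ∈ c, x < 8) → Commute g (wprod gen c) →
      walk0 (mvN g 0) (ONData.table.follow c (mvN g 0)) < 122760 →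
      walk0 (mvN g 0) (ONData.table.follow c (mvN g 0)) = mvN (g * u⁻¹) (ONData.table.follow c 0) := by
    intro c hc' k hh
    rw [(hu _ (hlt c hc' _ hγ) hh).2, follow_eq_mvN c hc' hγ, ← mvN_mul _ _ n_pos, k.eq,
      mvN_mul _ _ n_pos, ← follow_eq_mvN c hc' n_pos, ← mvN_mul _ _ (hlt c hc' _ n_pos)]
  have hb' : walk0 (mvN g 0) (ONData.table.follow c1 (mvN g 0)) < 122760 := by
    simpa [Nat.blt] using hb
  have hu0 : mvN u 0 = mvN g 0 := (hu _ (hlt c1 hc1 _ hγ) hb').1
  have hH : g * u⁻¹ ∈ H := mem_H_of_fix (by rw [mvN_mul _ _ n_pos, ← hu0, mvN_inv_mvN _ n_pos])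
  have eB := move c1 hc1 k1 hb'
  have hlt1 : 1 < ONData.table.n := by rw [table_n]; norm_num
  have hA1 : ONData.table.follow c1 0 = mvN (wprod gen w) 1 := by
    rw [← hw1, follow_eq_mvN w hw8 hlt1]
  have hsub : ONData.subs = ONData.sub0Words := by decide +kernel
  obtain ⟨j, hj, hjb⟩ : ∃ j < 58653, field ONData.sub0Pts 128 20 j =
      walk0 (mvN g 0) (ONData.table.follow c1 (mvN g 0)) := by
    rw [eB, hA1]
    exact invariant hsub (by norm_num) ONData.sub0_ok hH
      (invariant hsub (by norm_num) ONData.sub0_ok (wprod_mem_H w hw) ⟨0, by norm_num, ONData.sub0_root⟩)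
  have hpos := (ONData.sub0_ok j hj).2.1
  rw [hjb] at hpos
  rw [hpos, Nat.add_sub_cancel] at h
  rcases h with h | ⟨-, ⟨h2, h3⟩, ⟨h4, h5⟩, hmem⟩
  · exact absurd (Nat.eq_of_beq_eq_true h) (Nat.succ_ne_zero j)
  have h2 : walk0 (mvN g 0) (ONData.table.follow c2 (mvN g 0)) < 122760 := by simpa [Nat.blt] using h2
  have h3 : walk0 (mvN g 0) (ONData.table.follow c3 (mvN g 0)) < 122760 := by simpa [Nat.blt] using h3
  have eB2 := move c2 hc2 k2 h2
  have eB3 := move c3 hc3 k3 h3
  obtain ⟨v, hv, hvq⟩ := walk_spec sub0Tree (by norm_num) H (fun l hl => gen_mem_H hl) 32 j hj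
  have hd2 := hvq _ (show _ < ONData.table.n from h2) (by simpa [Nat.blt] using h4)
  have hd3 := hvq _ (show _ < ONData.table.n from h3) (by simpa [Nat.blt] using h5)
  have hv1 := hd2.1
  rw [ONData.sub0_root, hjb, eB, hA1] at hv1
  have hz : wprod gen w * (g * u⁻¹) * v⁻¹ ∈ H :=
    mul_mem (mul_mem (wprod_mem_H w hw) hH) (inv_mem hv)
  have hz1 : mvN (wprod gen w * (g * u⁻¹) * v⁻¹) 1 = 1 := by
    rw [mvN_mul _ _ hlt1, mvN_mul _ _ hlt1, ← hv1, mvN_inv_mvN v hlt1]
  obtain ⟨s, hsmem, hzs⟩ := stab_cases hz hz1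
  have hs8 : ∀ x ∈ s, x < 8 := fun x hx => ((stab_facts.1 s hsmem).1 x hx).trans (by norm_num)
  have final : ∀ c, (∀ x ∈ c, x < 8) →
      mvN v⁻¹ (mvN (g * u⁻¹) (ONData.table.follow c 0)) =
        ONData.table.follow s (ONData.table.follow w.reverse (ONData.table.follow c 0)) := by
    intro c hc'
    have hA := hlt c hc' 0 n_pos
    rw [follow_eq_mvN w.reverse hwr hA, follow_eq_mvN s hs8 (mvN_lt _ hA), ← hzs,
      wprod_reverse_inv w hw, ← mvN_mul _ _ hA, ← mvN_mul _ _ hA]
    congr 1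
    group
  rw [hd2.2, hd3.2, eB2, eB3, final c2 hc2, final c3 hc3] at hmem
  rw [(memb_iff _ _).2 (hs s hsmem)] at hmem
  exact absurd hmem Bool.noConfusion

end CfsgLib.KnownA.ONanOut
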