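import Cfsg.Agent.Lib.KnownA.ON.Simple
import Cfsg.Agent.Lib.KnownA.ONanOut.Scan
import Cfsg.Agent.Lib.KnownA.ONanOut.Chk
import Cfsg.Prelude.Def_KGroupFacts
import Mathlib.GroupTheory.Sylow

/-!
# The outer automorphism group of O'Nan's group has order 2

An automorphism may be assumed to fix an element `x` of order 11 and an element `n = y²` of order
10 normalising its group; the centraliser of `n` is cyclic, generated by `y`, which leaves `y` and
`y¹¹` as images of `y`; both occur, and the second is not inner.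
-/

set_option autoImplicit false
set_option maxRecDepth 100000

namespace CfsgLib.KnownA.ONanOut

open CfsgLib.InvChar.Coset Cfsg.Spor CfsgLib.KnownA.ONPres

/-- The element of order 11. -/
noncomputable abbrev ex : ON := wprod gen xW
/-- The element of order 20. -/
noncomputable abbrev ey : ON := wprod gen yW
/-- The element of order 10. -/
noncomputable abbrev en : ON := wprod gen nW

/-- The inverse word. -/
def invW (L : List ℕ) : List ℕ := (L.map ivT).reverse

theorem wprod_invW (L : List ℕ) : wprod gen (invW L) = (wprod gen L)⁻¹ := by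
  rw [← CosetInv.wprod_map_iv_reverse ONData.cert gen good L, invW]
  congr 2
  exact List.map_congr_left fun x _ => (iv_eq x).symm

theorem wprod_bind {K : Type*} [Group K] (f : ℕ → K) (F : ℕ → List ℕ) : ∀ L : List ℕ,
    wprod f (L.flatMap F) = wprod (fun t => wprod f (F t)) L := by
  intro L
  induction L with
  | nil => simp [wprod]
  | cons a L ih => rw [List.flatMap_cons, wprod_append, ih]; simp [wprod]

theorem wprod_pow (L : List ℕ) (m : ℕ) :
    wprod gen (List.replicate m L).flatten = wprod gen L ^ m :=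
  wprod_flatten_replicate gen L m

theorem eq_one (A : List ℕ) (hA : ∀ x ∈ A, x < 8)
    (e : ∀ i ∈ [0, 1, 27], ONData.table.follow A i = i) : wprod gen A = 1 :=
  wprod_eq_one_of_follow A hA e

theorem ne_one (A : List ℕ) (hA : ∀ x ∈ A, x < 8) {i : ℕ} (hi : i < ONData.table.n)
    (h : ONData.table.follow A i ≠ i) : wprod gen A ≠ 1 := fun e => h (by
  rw [follow_eq_mvN A hA hi, e, mvN_one])

theorem base_lt (i : ℕ) (hi : i ∈ [0, 1, 27]) : i < ONData.table.n := by
  rw [table_n]; simp only [List.mem_cons, List.not_mem_nil, or_false] at hi; omega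

theorem ex_pow : ex ^ 11 = 1 := by
  rw [← wprod_pow]
  exact eq_one _ (by decide +kernel) (by decide +kernel)

theorem ex_ne_one : ex ≠ 1 :=
  ne_one xW (by decide +kernel) n_pos (by decide +kernel)

theorem orderOf_ex : orderOf ex = 11 :=
  haveI : Fact (Nat.Prime 11) := ⟨by norm_num⟩
  orderOf_eq_prime ex_pow ex_ne_one

theorem en_eq : en = ey ^ 2 := by
  show wprod gen (yW ++ yW) = _
  rw [wprod_append, pow_two]

theorem en_conj_ex : en * ex * en⁻¹ = ex ^ 2 := by
  have h := eq_of_follow (nW ++ xW) (xW ++ xW ++ nW) (by unfold nW; decide +kernel)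
    (by unfold nW; decide +kernel) (by unfold nW; decide +kernel)
  rw [wprod_append, wprod_append, wprod_append] at h
  rw [mul_inv_eq_iff_eq_mul, pow_two, h]

theorem ey_ten : ey ^ 10 = gen 3 := by
  rw [← wprod_pow, show gen 3 = wprod gen [3] by simp [wprod]]
  exact eq_of_follow _ _ (by decide +kernel) (by decide) (by decide +kernel)

theorem orderOf_ey : orderOf ey = 20 := by
  rw [orderOf_eq_iff (by norm_num)]
  refine ⟨?_, fun m hm hm0 => ?_⟩
  · rw [← wprod_pow]
    exact eq_one _ (by decide +kernel) (by decide +kernel)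
  · obtain ⟨h1, i, hi, h2⟩ := (by decide +kernel : ∀ m < 20, 0 < m →
      (∀ x ∈ (List.replicate m yW).flatten, x < 8) ∧
        ∃ i ∈ [0, 1, 27], ONData.table.follow (List.replicate m yW).flatten i ≠ i) m hm hm0
    rw [← wprod_pow]
    exact ne_one _ h1 (base_lt i hi) h2

theorem ey_pow : ey ^ 20 = 1 := orderOf_ey ▸ pow_orderOf_eq_one ey

theorem targets_X : Targets xW (xW ++ xW) (xW ++ xW ++ xW) baseX targetsX := by
  unfold Targets; decide +kernel

theorem targets_N : Targets nW (nW ++ nW) (nW ++ nW ++ nW ++ nW) baseN targetsN := by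
  unfold Targets nW; decide +kernel

/-- A word of the stabiliser commuting with `c`, conjugated to the point `c`·0. -/
theorem stab_conj {cW w : List ℕ} (hc : ∀ x ∈ cW, x < 8) (hw : ∀ x ∈ w, x < 6)
    (hw1 : ONData.table.follow w 1 = ONData.table.follow cW 0) {z : ON} (hz : z ∈ H)
    (hcomm : Commute z (wprod gen cW)) :
    ∃ s ∈ stab64, z = wprod gen (w.reverse ++ s ++ w) ∧
      ∀ i ∈ [0, 1, 27], ONData.table.follow (w.reverse ++ s ++ w ++ cW) i =
        ONData.table.follow (cW ++ (w.reverse ++ s ++ w)) i := by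
  have hlt1 : 1 < ONData.table.n := by rw [table_n]; norm_num
  have hw8 : ∀ x ∈ w, x < 8 := fun x hx => (hw x hx).trans (by norm_num)
  have hA : mvN (wprod gen w) 1 = mvN (wprod gen cW) 0 := by
    rw [← follow_eq_mvN w hw8 hlt1, ← follow_eq_mvN cW hc n_pos, hw1]
  have hfix : mvN z (mvN (wprod gen cW) 0) = mvN (wprod gen cW) 0 := by
    rw [← mvN_mul _ _ n_pos, ← hcomm.eq, mvN_mul _ _ n_pos, mvN_H hz]
  have hz' : wprod gen w * z * (wprod gen w)⁻¹ ∈ H :=
    mul_mem (mul_mem (wprod_mem_H w hw) hz) (inv_mem (wprod_mem_H w hw))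
  obtain ⟨s, hs, e⟩ := stab_cases hz' (by
    rw [mvN_mul _ _ hlt1, mvN_mul _ _ hlt1, hA, hfix, ← hA, mvN_inv_mvN _ hlt1])
  have hz_eq : z = wprod gen (w.reverse ++ s ++ w) := by
    rw [wprod_append, wprod_append, wprod_reverse_inv w hw, ← e]; group
  refine ⟨s, hs, hz_eq, fun i hi => ?_⟩
  have hZ : ∀ x ∈ w.reverse ++ s ++ w, x < 8 := by
    intro x hx
    simp only [List.mem_append, List.mem_reverse] at hx
    rcases hx with (h | h) | h
    exacts [hw8 x h, ((stab_facts.1 s hs).1 x h).trans (by norm_num), hw8 x h]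
  have happ : ∀ A B : List ℕ, (∀ x ∈ A, x < 8) → (∀ x ∈ B, x < 8) → ∀ x ∈ A ++ B, x < 8 :=
    fun A B hA hB x hx => (List.mem_append.1 hx).elim (hA x) (hB x)
  rw [follow_eq_mvN _ (happ _ _ hZ hc) (base_lt i hi), follow_eq_mvN _ (happ _ _ hc hZ) (base_lt i hi),
    wprod_append _ (w.reverse ++ s ++ w), wprod_append _ cW, ← hz_eq, hcomm.eq]

theorem finalX : ∀ s ∈ stab64,
    (∀ i ∈ [0, 1, 27], ONData.table.follow (baseX.reverse ++ s ++ baseX) i = i) ∨
      ∃ i ∈ [0, 1, 27], ONData.table.follow (baseX.reverse ++ s ++ baseX ++ xW) i ≠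
        ONData.table.follow (xW ++ (baseX.reverse ++ s ++ baseX)) i := by decide +kernel

theorem finalN : ∀ s ∈ stab64,
    (∀ i ∈ [0, 1, 27], ONData.table.follow (baseN.reverse ++ s ++ baseN) i = i) ∨
    (∀ i ∈ [0, 1, 27], ONData.table.follow (baseN.reverse ++ s ++ baseN) i = ONData.table.follow [3] i) ∨
      ∃ i ∈ [0, 1, 27], ONData.table.follow (baseN.reverse ++ s ++ baseN ++ nW) i ≠
        ONData.table.follow (nW ++ (baseN.reverse ++ s ++ baseN)) i := by unfold nW; decide +kernel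

theorem conj_word_lt {w s : List ℕ} (hw : ∀ x ∈ w, x < 6) (hs : s ∈ stab64) :
    ∀ x ∈ w.reverse ++ s ++ w, x < 8 := by
  intro x hx
  simp only [List.mem_append, List.mem_reverse] at hx
  rcases hx with (h | h) | h
  exacts [(hw x h).trans (by norm_num), ((stab_facts.1 s hs).1 x h).trans (by norm_num),
    (hw x h).trans (by norm_num)]

theorem centralizer_ex {g : ON} (hg : Commute g ex) : ∃ m : ℕ, g = ex ^ m := by
  have hγ : mvN g 0 < 122760 := mvN_lt g n_pos
  have h := allX _ hγ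
  have h2c : Commute g (wprod gen (xW ++ xW)) := by
    rw [wprod_append]; exact hg.mul_right hg
  have h3c : Commute g (wprod gen (xW ++ xW ++ xW)) := by
    rw [wprod_append]; exact h2c.mul_right hg
  simp only [atX, force_eq, Bool.or_eq_true, Bool.and_eq_true,
    stage_false targets_X hg h2c h3c, Bool.false_eq_true, or_false] at h
  have hx2 : ∀ x ∈ xW ++ xW, x < 8 := by decide +kernel
  rcases h with h | ⟨hb, h0⟩
  · obtain ⟨m, hm, e⟩ := (by decide +kernel : ∀ t ∈ orbX, ∃ m < 11,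
      ONData.table.follow (List.replicate m xW).flatten 0 = t) _ ((memb_iff _ _).1 h)
    rw [follow_eq_mvN _ ((by decide +kernel : ∀ m < 11, ∀ x ∈ (List.replicate m xW).flatten, x < 8) m hm)
      n_pos, wprod_pow] at e
    refine ⟨m, mul_inv_eq_one.1 ?_⟩
    have hzH : g * (ex ^ m)⁻¹ ∈ H := mem_H_of_fix (by
      rw [mvN_mul _ _ n_pos, ← e, mvN_inv_mvN _ n_pos])
    have hzc : Commute (g * (ex ^ m)⁻¹) (wprod gen xW) :=
      hg.mul_left ((Commute.self_pow ex m).symm.inv_left)
    obtain ⟨s, hs, ez, hcom⟩ := stab_conj (cW := xW) (w := baseX) (by decide +kernel) (by decide +kernel)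
      (by decide +kernel) hzH hzc
    rcases finalX s hs with h1 | ⟨i, hi, hne⟩
    · rw [ez]
      exact eq_one _ (conj_word_lt (by decide +kernel) hs) h1
    · exact absurd (hcom i hi) hne
  · exfalso
    have hb : walk0 (mvN g 0) (ONData.table.follow (xW ++ xW) (mvN g 0)) < 122760 := by
      simpa [Nat.blt] using hb
    have hlt2 : ONData.table.follow (xW ++ xW) (mvN g 0) < ONData.table.n := by
      rw [follow_eq_mvN _ hx2 hγ]; exact mvN_lt _ hγ
    obtain ⟨u, hu⟩ := walk0_spec (show mvN g 0 < ONData.table.n from hγ)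
    obtain ⟨hu0, hu1⟩ := hu _ hlt2 hb
    have hH : g * u⁻¹ ∈ H := mem_H_of_fix (by rw [mvN_mul _ _ n_pos, ← hu0, mvN_inv_mvN _ n_pos])
    have hA : ONData.table.follow (xW ++ xW) 0 < ONData.table.n := by
      rw [follow_eq_mvN _ hx2 n_pos]; exact mvN_lt _ n_pos
    have eB : walk0 (mvN g 0) (ONData.table.follow (xW ++ xW) (mvN g 0)) =
        mvN (g * u⁻¹) (ONData.table.follow (xW ++ xW) 0) := by
      rw [hu1, follow_eq_mvN _ hx2 hγ, ← mvN_mul _ _ n_pos, h2c.eq, mvN_mul _ _ n_pos,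
        ← follow_eq_mvN _ hx2 n_pos, ← mvN_mul _ _ hA]
    rw [eB] at h0
    refine CosetInv.not_mem_orbit_cert ONData.sub2_ok (Nat.eq_of_beq_eq_true h0)
      (invariant (by decide +kernel) (by norm_num) ONData.sub2_ok hH ?_)
    exact ⟨field ONData.sub2Pos 128 20 (ONData.table.follow (xW ++ xW) 0) - 1, by decide +kernel,
      by decide +kernel⟩

theorem centralizer_en {g : ON} (hg : Commute g en) : ∃ m : ℕ, g = ey ^ m := by
  have hγ : mvN g 0 < 122760 := mvN_lt g n_pos
  have h := allN _ hγ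
  have h2c : Commute g (wprod gen (nW ++ nW)) := by
    rw [wprod_append]; exact hg.mul_right hg
  have h4c : Commute g (wprod gen (nW ++ nW ++ nW ++ nW)) := by
    rw [wprod_append, wprod_append]; exact (h2c.mul_right hg).mul_right hg
  have hd : Commute g (gen 3) := by
    rw [← ey_ten, show (10 : ℕ) = 2 * 5 from rfl, pow_mul, ← en_eq]
    exact hg.pow_right 5
  have hfix : ONData.table.app (mvN g 0) 3 = mvN g 0 := by
    rw [app_eq_mvN (by norm_num) (mvN_lt g n_pos), ← mvN_mul _ _ n_pos, hd.eq, mvN_mul _ _ n_pos,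
      mvN_H (gen_mem_H (by norm_num))]
  simp only [atN, Bool.or_eq_true, hfix, Nat.beq_refl, Bool.not_true, Bool.false_eq_true, false_or,
    stage_false targets_N hg h2c h4c, or_false] at h
  obtain ⟨m, hm, e⟩ := (by decide +kernel : ∀ t ∈ orbY, ∃ m < 20,
    ONData.table.follow (List.replicate m yW).flatten 0 = t) _ ((memb_iff _ _).1 h)
  rw [follow_eq_mvN _ ((by decide +kernel : ∀ m < 20, ∀ x ∈ (List.replicate m yW).flatten, x < 8) m hm)
    n_pos, wprod_pow] at e
  have hzH : g * (ey ^ m)⁻¹ ∈ H := mem_H_of_fix (by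
    rw [mvN_mul _ _ n_pos, ← e, mvN_inv_mvN _ n_pos])
  have hzc : Commute (g * (ey ^ m)⁻¹) (wprod gen nW) :=
    hg.mul_left (by show Commute (ey ^ m)⁻¹ en; rw [en_eq]; exact (Commute.pow_pow_self ey m 2).inv_left)
  obtain ⟨s, hs, ez, hcom⟩ := stab_conj (cW := nW) (w := baseN) (by unfold nW; decide +kernel)
    (by decide +kernel) (by unfold nW; decide +kernel) hzH hzc
  rcases finalN s hs with h1 | h1 | ⟨i, hi, hne⟩
  · refine ⟨m, mul_inv_eq_one.1 ?_⟩
    rw [ez]
    exact eq_one _ (conj_word_lt (by decide +kernel) hs) h1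
  · refine ⟨10 + m, ?_⟩
    rw [pow_add, ← mul_inv_eq_iff_eq_mul, ez, ey_ten, show gen 3 = wprod gen [3] by simp [wprod]]
    exact eq_of_follow _ _ (conj_word_lt (by decide +kernel) hs) (by decide) h1
  · exact absurd (hcom i hi) hne

/-- A generator as a word. -/
def expand (t : ℕ) : List ℕ := [xW, invW xW, yW, invW yW].getD t []

theorem gen_facts : ∀ a < 7, (∀ t ∈ genW.getD a [], t < 4) ∧
    (∀ x ∈ (genW.getD a []).flatMap expand, x < 8) ∧
    ∀ i ∈ [0, 1, 27], ONData.table.follow [a] i =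
      ONData.table.follow ((genW.getD a []).flatMap expand) i := by decide +kernel

theorem closure_xy : Subgroup.closure ({ex, ey} : Set ON) = ⊤ := by
  rw [eq_top_iff, ← closure_gen, Subgroup.closure_le]
  have key : ∀ a < 7, gen a ∈ Subgroup.closure ({ex, ey} : Set ON) := by
    intro a ha
    obtain ⟨h4, h8, he⟩ := gen_facts a ha
    rw [show gen a = wprod gen [a] by simp [wprod],
      eq_of_follow [a] _ (by simpa using ha.trans (by norm_num)) h8 he, wprod_bind]
    refine Subgroup.list_prod_mem _ fun z hz => ?_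
    obtain ⟨t, ht, rfl⟩ := List.mem_map.1 hz
    have := h4 t ht
    interval_cases t <;> simp only [expand, List.getD_cons_zero, List.getD_cons_succ, wprod_invW]
    exacts [Subgroup.subset_closure (by simp), inv_mem (Subgroup.subset_closure (by simp)),
      Subgroup.subset_closure (by simp), inv_mem (Subgroup.subset_closure (by simp))]
  rintro _ ⟨a, ha, rfl⟩
  have ha' : a < 8 := ha
  rcases Nat.lt_or_ge a 7 with h | h
  · exact key a h
  · obtain rfl : a = 7 := by omega
    rw [show gen 7 = (gen 6)⁻¹ from gen_ivT 6]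
    exact inv_mem (key 6 (by norm_num))

theorem aut_ext {φ ψ : MulAut ON} (hx : φ ex = ψ ex) (hy : φ ey = ψ ey) : φ = ψ := by
  refine MulEquiv.ext fun g => ?_
  have := MonoidHom.eq_of_eqOn_dense (f := φ.toMonoidHom) (g := ψ.toMonoidHom) closure_xy ?_
  · exact DFunLike.congr_fun this g
  · rintro z (rfl | rfl)
    · exact hx
    · exact hy

/-- The image of a letter under the outer automorphism. -/
def imgL (t : ℕ) : List ℕ := imgW.getD t []

theorem img_facts :
    (∀ t < 8, (∀ x ∈ imgL t, x < 8) ∧ (∀ x ∈ invW (imgL t), x < 8) ∧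
      ∀ i ∈ [0, 1, 27], ONData.table.follow (imgL (ivT t)) i = ONData.table.follow (invW (imgL t)) i) ∧
    (∀ r ∈ ONData.rels, (∀ x ∈ r.flatMap imgL, x < 8) ∧
      ∀ i ∈ [0, 1, 27], ONData.table.follow (r.flatMap imgL) i = i) ∧
    ((∀ x ∈ xW.flatMap imgL, x < 8) ∧
      ∀ i ∈ [0, 1, 27], ONData.table.follow (xW.flatMap imgL) i = ONData.table.follow xW i) ∧
    ((∀ x ∈ yW.flatMap imgL, x < 8) ∧
      ∀ i ∈ [0, 1, 27], ONData.table.follow (yW.flatMap imgL) i = ONData.table.follow (yW ++ [3]) i) := by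
  decide +kernel

theorem exists_outer : ∃ σ : MulAut ON, σ ex = ex ∧ σ ey = ey ^ 11 := by
  haveI : Finite ON := finite_ON
  haveI := isSimpleGroup
  obtain ⟨hinv, hrel, ⟨hx1, hx2⟩, hy1, hy2⟩ := img_facts
  have hiv8 : ∀ t < 8, ivT t < 8 := by decide
  obtain ⟨φ, hφ⟩ := ONPres.exists_hom (fun t => wprod gen (imgL t))
    (fun t ht => by
      rw [← wprod_invW]
      exact eq_of_follow _ _ (hinv _ (hiv8 t ht)).1 (hinv t ht).2.1 (hinv t ht).2.2)
    (fun r hr => by
      rw [← wprod_bind]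
      exact eq_one _ (hrel r hr).1 (hrel r hr).2)
  have hex : φ ex = ex := by
    show φ (wprod gen xW) = _
    rw [map_wprod φ gen _ xW fun t ht => hφ t ((by decide +kernel : ∀ t ∈ xW, t < 8) t ht), ← wprod_bind]
    exact eq_of_follow _ _ hx1 (by decide +kernel) hx2
  have hey : φ ey = ey ^ 11 := by
    show φ (wprod gen yW) = _
    rw [map_wprod φ gen _ yW fun t ht => hφ t ((by decide +kernel : ∀ t ∈ yW, t < 8) t ht), ← wprod_bind,
      eq_of_follow _ (yW ++ [3]) hy1 (by decide +kernel) hy2, wprod_append,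
      show wprod gen [3] = gen 3 by simp [wprod], ← ey_ten, ← pow_succ']
  have hinj : Function.Injective φ := by
    rw [← MonoidHom.ker_eq_bot_iff]
    refine (φ.normal_ker.eq_bot_or_eq_top).resolve_right fun h => ex_ne_one ?_
    have : ex ∈ φ.ker := h ▸ Subgroup.mem_top _
    rw [MonoidHom.mem_ker, hex] at this
    exact this
  exact ⟨MulEquiv.ofBijective φ (Finite.injective_iff_bijective.1 hinj), hex, hey⟩

theorem ex_zpow {g : ON} (hg : g ∈ Subgroup.zpowers ex) : ∃ k < 11, g = ex ^ k := by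
  haveI : Finite ON := finite_ON
  classical
  obtain ⟨k, hk, e⟩ := Finset.mem_image.1
    (((isOfFinOrder_of_finite ex).mem_zpowers_iff_mem_range_orderOf).1 hg)
  exact ⟨k, orderOf_ex ▸ Finset.mem_range.1 hk, e.symm⟩

theorem en_pow_conj (i : ℕ) : en ^ i * ex * (en ^ i)⁻¹ = ex ^ 2 ^ i := by
  induction i with
  | zero => simp
  | succ i ih =>
    rw [pow_succ', show en * en ^ i * ex * (en * en ^ i)⁻¹ = en * (en ^ i * ex * (en ^ i)⁻¹) * en⁻¹ by group,
      ih, ← conj_pow, en_conj_ex, ← pow_mul, ← pow_succ']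

theorem two_generates : ∀ k < 11, k ≠ 0 → ∃ i < 10, 2 ^ i * k % 11 = 1 := by decide

theorem fix_ex (φ : MulAut ON) : ∃ g : ON, g * φ ex * g⁻¹ = ex := by
  haveI : Finite ON := finite_ON
  haveI : Fact (Nat.Prime 11) := ⟨by norm_num⟩
  have hc : ∀ g : ON, orderOf g = 11 →
      Nat.card (Subgroup.zpowers g) = 11 ^ (Nat.card ON).factorization 11 := by
    intro g hg
    have h11 : (460815505920 : ℕ).factorization 11 = 1 := by
      rw [Nat.factorization_def _ (by norm_num), show (460815505920 : ℕ) = 41892318720 * 11 from rfl,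
        padicValNat.mul (by norm_num) (by norm_num), padicValNat.eq_zero_of_not_dvd (by norm_num),
        padicValNat.self (by norm_num)]
    rw [Nat.card_zpowers, hg, card_ON, h11, pow_one]
  have ho : orderOf (φ ex) = 11 := by rw [MulEquiv.orderOf_eq, orderOf_ex]
  obtain ⟨g, hg⟩ := MulAction.exists_smul_eq ON (Sylow.ofCard _ (hc _ ho)) (Sylow.ofCard _ (hc _ orderOf_ex))
  have hmem : g * φ ex * g⁻¹ ∈ Subgroup.zpowers ex := by
    have h1 : g * φ ex * g⁻¹ ∈ ((g • Sylow.ofCard _ (hc _ ho) : Sylow 11 ON) : Subgroup ON) :=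
      ⟨φ ex, Subgroup.mem_zpowers _, rfl⟩
    rw [hg] at h1
    exact h1
  obtain ⟨k, hk, e⟩ := ex_zpow hmem
  have hk0 : k ≠ 0 := by
    rintro rfl
    rw [pow_zero, conj_eq_one_iff, MulEquiv.map_eq_one_iff] at e
    exact ex_ne_one e
  obtain ⟨i, -, hi⟩ := two_generates k hk hk0
  refine ⟨en ^ i * g, ?_⟩
  rw [show en ^ i * g * φ ex * (en ^ i * g)⁻¹ = en ^ i * (g * φ ex * g⁻¹) * (en ^ i)⁻¹ by group, e,
    ← conj_pow, en_pow_conj, ← pow_mul, pow_eq_pow_mod _ ex_pow, hi, pow_one]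

theorem fix_ex_en (φ : MulAut ON) : ∃ g : ON, g * φ ex * g⁻¹ = ex ∧ g * φ en * g⁻¹ = en := by
  obtain ⟨g, hg⟩ := fix_ex φ
  set ψ : MulAut ON := MulAut.conj g * φ with hψ
  have hψx : ψ ex = ex := hg
  have h2 : ψ en * ex * (ψ en)⁻¹ = ex ^ 2 := by
    have := congrArg ψ en_conj_ex
    rwa [map_mul, map_mul, map_inv, map_pow, hψx] at this
  obtain ⟨i, hi⟩ := centralizer_ex (g := en⁻¹ * ψ en) (by
    show en⁻¹ * ψ en * ex = ex * (en⁻¹ * ψ en)
    have h3 : ψ en * ex = ex ^ 2 * ψ en := by rw [← h2]; group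
    rw [mul_assoc, h3, ← en_conj_ex]
    group)
  have hsix : en⁻¹ * ex * en = ex ^ 6 := by
    have e : en * ex ^ 6 * en⁻¹ = ex := by
      rw [← conj_pow, en_conj_ex, ← pow_mul, pow_eq_pow_mod _ ex_pow]; simp
    calc en⁻¹ * ex * en = en⁻¹ * (en * ex ^ 6 * en⁻¹) * en := by rw [e]
      _ = ex ^ 6 := by group
  refine ⟨ex ^ (2 * i) * g, ?_, ?_⟩
  · rw [show ex ^ (2 * i) * g * φ ex * (ex ^ (2 * i) * g)⁻¹ =
      ex ^ (2 * i) * (g * φ ex * g⁻¹) * (ex ^ (2 * i))⁻¹ by group, hg]
    rw [(Commute.self_pow ex (2 * i)).symm.eq, mul_inv_cancel_right]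
  · have hψn : g * φ en * g⁻¹ = en * ex ^ i := by
      have : en⁻¹ * (g * φ en * g⁻¹) = ex ^ i := hi
      rw [← this]; group
    have hmove : ex ^ (2 * i) * en = en * ex ^ (6 * (2 * i)) := by
      have e : (en⁻¹ * ex * en⁻¹⁻¹) ^ (2 * i) = ex ^ (6 * (2 * i)) := by
        rw [inv_inv, hsix, ← pow_mul]
      rw [conj_pow, inv_inv] at e
      rw [← e]; group
    rw [show ex ^ (2 * i) * g * φ en * (ex ^ (2 * i) * g)⁻¹ =
      ex ^ (2 * i) * (g * φ en * g⁻¹) * (ex ^ (2 * i))⁻¹ by group, hψn, ← mul_assoc, hmove,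
      mul_assoc en, ← pow_add, mul_inv_eq_iff_eq_mul]
    congr 1
    exact pow_eq_pow_iff_modEq.2 (by rw [orderOf_ex]; unfold Nat.ModEq; omega)

theorem fixing_cases (σ : MulAut ON) (hσx : σ ex = ex) (hσy : σ ey = ey ^ 11) (ψ : MulAut ON)
    (hx : ψ ex = ex) (hn : ψ en = en) : ψ = 1 ∨ ψ = σ := by
  obtain ⟨j, hj⟩ := centralizer_en (g := ψ ey) (by
    have hc : Commute (ψ ey) (ψ en) := Commute.map (by rw [en_eq]; exact Commute.self_pow ey 2) ψ
    rwa [hn] at hc)
  have h2 : ey ^ (j * 2) = ey ^ 2 := by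
    rw [pow_mul, ← hj, ← map_pow, ← en_eq, hn]
  rw [pow_eq_pow_iff_modEq, orderOf_ey] at h2
  unfold Nat.ModEq at h2
  rw [pow_eq_pow_mod j ey_pow] at hj
  rcases (show j % 20 = 1 ∨ j % 20 = 11 by omega) with e | e <;> rw [e] at hj
  · exact Or.inl (aut_ext (by simpa using hx) (by simpa using hj))
  · exact Or.inr (aut_ext (by rw [hx, hσx]) (by rw [hj, hσy]))

theorem not_inner (σ : MulAut ON) (hσy : σ ey = ey ^ 11) : σ ∉ Cfsg.Inn ON := by
  rintro ⟨g, hg⟩
  have hy : g * ey * g⁻¹ = ey ^ 11 := by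
    rw [← hσy]; exact DFunLike.congr_fun hg ey
  have hn : g * en * g⁻¹ = en := by
    rw [en_eq, ← conj_pow, hy, ← pow_mul, pow_eq_pow_mod (11 * 2) ey_pow]
  obtain ⟨m, rfl⟩ := centralizer_en (g := g) (mul_inv_eq_iff_eq_mul.1 hn)
  rw [(Commute.self_pow ey m).symm.eq, mul_inv_cancel_right] at hy
  have h : ey ^ 1 = ey ^ 11 := by rw [pow_one]; exact hy
  rw [pow_eq_pow_iff_modEq, orderOf_ey] at h
  unfold Nat.ModEq at h
  norm_num at h

/-- **`Out(O'N)` has order 2.** -/
theorem card_out : Nat.card (Cfsg.Out ON) = 2 := by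
  obtain ⟨σ, hσx, hσy⟩ := exists_outer
  have hcases : ∀ q : Cfsg.Out ON, q = 1 ∨ q = QuotientGroup.mk σ := by
    intro q
    obtain ⟨φ, rfl⟩ := QuotientGroup.mk_surjective q
    obtain ⟨g, hx, hn⟩ := fix_ex_en φ
    have hconj : ((MulAut.conj g : MulAut ON) : Cfsg.Out ON) = 1 :=
      (QuotientGroup.eq_one_iff _).2 ⟨g, rfl⟩
    have hq : (φ : Cfsg.Out ON) = ((MulAut.conj g * φ : MulAut ON) : Cfsg.Out ON) := by
      rw [QuotientGroup.mk_mul, hconj, one_mul]
    rcases fixing_cases σ hσx hσy (MulAut.conj g * φ) hx hn with h | h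
    · exact Or.inl (by rw [hq, h]; rfl)
    · exact Or.inr (by rw [hq, h])
  have hne : (1 : Cfsg.Out ON) ≠ QuotientGroup.mk σ := fun e =>
    not_inner σ hσy ((QuotientGroup.eq_one_iff _).1 e.symm)
  rw [Nat.card_eq_two_iff]
  exact ⟨1, QuotientGroup.mk σ, hne, by ext q; simpa using hcases q⟩

end CfsgLib.KnownA.ONanOut
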